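import Mathlib
import Cfsg.Agent.Lib.Char.AltMultiplier.Bound
import Cfsg.Agent.Lib.Spor.Spin.Small

/-!
# Lifts of a regular four group to a perfect double cover of an alternating group anticommute
-/

set_option autoImplicit false
set_option maxRecDepth 4000

open Subgroup
open scoped commutatorElement
open CfsgLib.Char.AltPres (gen pt)
open CfsgLib.Char.AltMultiplier

namespace CfsgLib.Invol.AltCover

variable {Γ : Type*} [Group Γ] [Finite Γ]

theorem standard_pair_ne {n : ℕ} [NeZero n] (hn : 5 ≤ n) (hperf : _root_.commutator Γ = ⊤)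
    (hZ : Nat.card (center Γ) = 2) (e : Γ ⧸ center Γ ≃* alternatingGroup (Fin n)) (S T : Γ)
    (hS : ((e (QuotientGroup.mk S) : alternatingGroup (Fin n)) : Equiv.Perm (Fin n)) = gen n 1)
    (hT : ((e (QuotientGroup.mk T) : alternatingGroup (Fin n)) : Equiv.Perm (Fin n)) =
      gen n 0 * gen n 1 * (gen n 0)⁻¹) : ⁅S, T⁆ ≠ 1 := by
  classical
  intro hST
  set π : Γ →* ↥(alternatingGroup (Fin n)) := e.toMonoidHom.comp (QuotientGroup.mk' (center Γ)) with hπdef
  have hker : π.ker = center Γ := by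
    ext g
    rw [MonoidHom.mem_ker, hπdef, MonoidHom.comp_apply]
    exact (map_eq_one_iff _ e.injective).trans (QuotientGroup.eq_one_iff g)
  have hc : π.ker ≤ center Γ := le_of_eq hker
  have hd : π.ker ≤ _root_.commutator Γ := hperf.symm ▸ le_top
  have hsurj : Function.Surjective π := e.surjective.comp (QuotientGroup.mk'_surjective _)
  set m := n - 2 with hm
  set x : ℕ → ↥(alternatingGroup (Fin n)) := fun i =>
    if h : i < m then ⟨gen n i, CfsgLib.Char.AltPres.gen_mem_alt (by omega)⟩ else 1 with hx_def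
  have hxv : ∀ i, i < m → (x i : Equiv.Perm (Fin n)) = gen n i := fun i hi => by simp [hx_def, hi]
  have hrel : CfsgLib.Char.AltPres.Rel x m := by
    have h := CfsgLib.Char.AltPres.gen_rel (n := n) (m := m) (by omega)
    refine ⟨fun h0 => Subtype.ext ?_, fun i h1 h2 => Subtype.ext ?_, fun i hi => Subtype.ext ?_,
      fun i j hij hj => Subtype.ext ?_⟩
    · simp [hxv 0 h0, h.cube h0]
    · simp [hxv i h2, h.sq i h1 h2]
    · simp [hxv i (by omega), hxv (i + 1) hi, h.braid i hi]
    · simp [hxv i (by omega), hxv j hj, h.far i j hij hj]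
  have hgen : closure (x '' Set.Iio m) = ⊤ := by
    rw [eq_top_iff]
    intro g _
    have h := CfsgLib.Char.AltPres.mem_closure_gen (n := n) m (by omega) (by omega) g.1 g.2
      (fun k hk => absurd k.2 (by omega))
    have himg : gen n '' Set.Iio m = (alternatingGroup (Fin n)).subtype '' (x '' Set.Iio m) := by
      rw [Set.image_image]
      exact Set.image_congr fun i hi => (hxv i hi).symm
    rw [himg, ← MonoidHom.map_closure] at h
    obtain ⟨g', hg', e'⟩ := h
    rwa [← Subtype.ext e']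
  have hcardP : 2 * Nat.card ↥(alternatingGroup (Fin n)) = (m + 2).factorial := by
    haveI : Nontrivial (Fin n) := Fin.nontrivial_iff_two_le.2 (by omega)
    rw [two_mul_nat_card_alternatingGroup, Nat.card_perm, Nat.card_fin, show m + 2 = n by omega]
  have hs : π S = x 1 := Subtype.ext (by rw [hxv 1 (by omega)]; exact hS)
  have ht : π T = x 0 * x 1 * (x 0)⁻¹ := Subtype.ext (by
    rw [Subgroup.coe_mul, Subgroup.coe_mul, Subgroup.coe_inv, hxv 0 (by omega), hxv 1 (by omega)]
    exact hT)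
  have hxx : x 1 * x 1 = 1 := hrel.mul_self le_rfl (by omega)
  rcases Nat.lt_or_ge n 8 with hsmall | hbig
  · -- small degree: the lifts have order four
    have hns : ∀ L : Subgroup Γ, ¬ (center Γ).IsComplement' L := by
      intro L hL
      have htop : center Γ ⊔ L = ⊤ := hL.sup_eq_top
      have hLn : L.Normal := by
        rw [← Subgroup.normalizer_eq_top_iff, eq_top_iff, ← htop]
        refine sup_le (fun z hz => ?_) Subgroup.le_normalizer
        rw [Subgroup.mem_normalizer_iff]
        intro h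
        rw [← Subgroup.mem_center_iff.1 hz h, mul_inv_cancel_right]
      have hle : _root_.commutator Γ ≤ L := by
        rw [_root_.commutator_def, commutator_le]
        intro g _ h _
        have dec : ∀ g : Γ, ∃ z ∈ center Γ, ∃ l ∈ L, g = z * l := fun g => by
          obtain ⟨⟨z, l⟩, h⟩ := hL.surjective g
          exact ⟨z.1, z.2, l.1, l.2, h.symm⟩
        obtain ⟨z, hz, l, hl, rfl⟩ := dec g
        obtain ⟨w, hw, k, hk, rfl⟩ := dec h
        rw [commutator_eq_of_map_eq hc (u' := l) (v' := k)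
          (by rw [map_mul, (MonoidHom.mem_ker).1 (hker.symm ▸ hz : z ∈ π.ker), one_mul])
          (by rw [map_mul, (MonoidHom.mem_ker).1 (hker.symm ▸ hw : w ∈ π.ker), one_mul]), commutatorElement_def]
        exact L.mul_mem (L.mul_mem (L.mul_mem hl hk) (L.inv_mem hl)) (L.inv_mem hk)
      rw [hperf, top_le_iff] at hle
      obtain ⟨z, hz1, hzc, -, -⟩ := Cfsg.Agent.Lib.Spor.Spin.center_pair hZ
      exact hz1 ((Subgroup.mem_bot).1 (hL.disjoint.eq_bot ▸ Subgroup.mem_inf.2 ⟨hzc, hle ▸ Subgroup.mem_top z⟩))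
    have hno := Cfsg.Agent.Lib.Spor.Spin.no_extra_involution n (by omega) (H := Γ) ⟨hZ, ⟨e⟩, hns⟩
    obtain ⟨z, hz1, hzc, hzz, hz⟩ := Cfsg.Agent.Lib.Spor.Spin.center_pair hZ
    have hone : ((1 : alternatingGroup (Fin n)) : Equiv.Perm (Fin n)) = 1 := rfl
    have hx1 : x 1 ≠ 1 := by
      intro h
      have h' := congrArg (fun f : alternatingGroup (Fin n) => (f : Equiv.Perm (Fin n)) (pt n 2)) h
      simp only [hxv 1 (by omega), gen, hone, Equiv.Perm.one_apply, Equiv.Perm.mul_apply] at h'
      rw [if_neg (by omega), Equiv.Perm.mul_apply, Equiv.swap_apply_left,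
        Equiv.swap_apply_of_ne_of_ne (CfsgLib.Char.AltPres.pt_ne (by omega) (by omega) (by omega))
          (CfsgLib.Char.AltPres.pt_ne (by omega) (by omega) (by omega))] at h'
      exact CfsgLib.Char.AltPres.pt_ne (n := n) (by omega) (by omega) (by omega) h'
    have hsq : ∀ g : Γ, π g ≠ 1 → π g * π g = 1 → g * g = z := by
      intro g hg hg2
      have h1 : g * g ∈ center Γ := hker ▸ (by rw [MonoidHom.mem_ker, map_mul, hg2] : g * g ∈ π.ker)
      refine (hz _ h1).resolve_left fun h => hg ?_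
      have ho : orderOf g = 2 := orderOf_eq_prime (by rw [pow_two, h]) fun h' => hg (by rw [h', map_one])
      exact (MonoidHom.mem_ker).1 (hker.symm ▸ hno g ho)
    have htt : (x 0 * x 1 * (x 0)⁻¹) * (x 0 * x 1 * (x 0)⁻¹) = 1 := by
      rw [show x 0 * x 1 * (x 0)⁻¹ * (x 0 * x 1 * (x 0)⁻¹) = x 0 * (x 1 * x 1) * (x 0)⁻¹ by group,
        hxx, mul_one, mul_inv_cancel]
    have e1 := hsq S (hs ▸ hx1) (by rw [hs]; exact hxx)
    have e2 := hsq T (ht ▸ fun h => hx1 (by
      calc x 1 = (x 0)⁻¹ * (x 0 * x 1 * (x 0)⁻¹) * x 0 := by group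
        _ = 1 := by rw [h, mul_one, inv_mul_cancel])) (by rw [ht]; exact htt)
    have hcm : S * T = T * S := commutatorElement_eq_one_iff_mul_comm.1 hST
    have e3 : (S * T) * (S * T) = 1 := by
      rw [mul_assoc, ← mul_assoc T, ← hcm, mul_assoc, ← mul_assoc, e1, e2, hzz]
    have hcen : S * T ∈ center Γ := by
      by_cases h : S * T = 1
      · rw [h]; exact one_mem _
      · exact hno _ (orderOf_eq_prime (by rw [pow_two, e3]) h)
    have h4 : π S * π T = 1 := by rw [← map_mul]; exact (MonoidHom.mem_ker).1 (hker.symm ▸ hcen)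
    have h5 : x 0 * x 1 * (x 0)⁻¹ = x 1 := by
      rw [hs, ht] at h4
      rw [eq_inv_of_mul_eq_one_right h4, inv_eq_of_mul_eq_one_right hxx]
    have h6 : gen n 0 * gen n 1 * (gen n 0)⁻¹ = gen n 1 := by
      have := congrArg Subtype.val h5
      rwa [Subgroup.coe_mul, Subgroup.coe_mul, Subgroup.coe_inv, hxv 0 (by omega), hxv 1 (by omega)] at this
    rw [mul_inv_eq_iff_eq_mul] at h6
    have h7 := congrArg (fun f : Equiv.Perm (Fin n) => f (pt n 0)) h6
    have n01 : pt n 0 ≠ pt n 1 := CfsgLib.Char.AltPres.pt_ne (by omega) (by omega) (by omega)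
    have n02 : pt n 0 ≠ pt n 2 := CfsgLib.Char.AltPres.pt_ne (by omega) (by omega) (by omega)
    have n03 : pt n 0 ≠ pt n 3 := CfsgLib.Char.AltPres.pt_ne (by omega) (by omega) (by omega)
    have n12 : pt n 1 ≠ pt n 2 := CfsgLib.Char.AltPres.pt_ne (by omega) (by omega) (by omega)
    have n13 : pt n 1 ≠ pt n 3 := CfsgLib.Char.AltPres.pt_ne (by omega) (by omega) (by omega)
    simp [gen, Equiv.Perm.mul_apply, Equiv.swap_apply_of_ne_of_ne, n01, n02, n03, n12, n13, n01.symm, n02.symm,
      n12.symm] at h7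
  have hk : ∀ u v : Γ, π u = x 1 → π v = x 0 * x 1 * (x 0)⁻¹ → u * v = v * u := fun u v hu hv => by
    rw [← commutatorElement_eq_one_iff_mul_comm, commutator_eq_of_map_eq hc (hu.trans hs.symm) (hv.trans ht.symm), hST]
  have hbot : π.ker = ⊥ := by
    refine ker_eq_bot_of_commuting hc hd hsurj hrel hgen hcardP (by omega) hk fun h3 => ?_
    obtain ⟨y₃, hy₃⟩ := hsurj (x 3)
    obtain ⟨g, hg, -, hg3, hg1, hgT⟩ := six_point_facts (n := n) (by omega)
    obtain ⟨G, hG⟩ := hsurj ⟨g, hg⟩
    have hd3 : ⁅y₃, S⁆ ∈ π.ker := by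
      rw [MonoidHom.mem_ker, map_commutatorElement, hs, hy₃, commutatorElement_eq_one_iff_mul_comm]
      exact (hrel.commute_far le_rfl (by omega : 1 + 1 < 3) h3).symm
    have hkey : ⁅S, T⁆ = ⁅y₃, S⁆ := by
      refine commutator_comparison hc (A := y₃) (G := G) ?_ ?_ ?_ ?_ hd3
      · rw [ht, show x 0 * x 1 * (x 0)⁻¹ * (x 0 * x 1 * (x 0)⁻¹) = x 0 * (x 1 * x 1) * (x 0)⁻¹ by group,
          hxx, mul_one, mul_inv_cancel]
      · refine Subtype.ext ?_
        simp only [map_mul, map_inv, hG, hy₃, Subgroup.coe_mul, Subgroup.coe_inv, hxv 3 h3]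
        exact hg3
      · refine Subtype.ext ?_
        simp only [map_mul, map_inv, hG, hy₃, hs, ht, Subgroup.coe_mul, Subgroup.coe_inv, hxv 3 h3,
          hxv 1 (by omega), hxv 0 (by omega)]
        exact hgT
      · refine Subtype.ext ?_
        simp only [map_mul, map_inv, hy₃, hs, ht, Subgroup.coe_mul, Subgroup.coe_inv, hxv 3 h3,
          hxv 1 (by omega), hxv 0 (by omega)]
        rw [hgT]; exact hg1
    intro u v hu hv
    rw [← commutatorElement_eq_one_iff_mul_comm, commutator_eq_of_map_eq hc (hu.trans hs.symm) (hv.trans hy₃.symm),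
      ← commutatorElement_inv, ← hkey, hST, inv_one]
  rw [hker] at hbot
  rw [hbot] at hZ
  simp at hZ

end CfsgLib.Invol.AltCover
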