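import Mathlib

/-!
# Balanced pairs of reflections of a permutation

Every permutation is a product of two involutions supported in its support; for even permutations
they can be chosen with supports of equal size, not both full.
-/

set_option autoImplicit false

namespace CfsgLib.Invol.AltCover

open Equiv Equiv.Perm

variable {α : Type*} [Fintype α] [DecidableEq α]

/-- `r` reverses `σ` inside its support, and the two reflections are not both without fixed points there. -/
structure Refl (σ r : Perm α) : Prop where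
  invol : r * r = 1
  invol' : (r * σ) * (r * σ) = 1
  sub : r.support ⊆ σ.support
  short : σ ≠ 1 → r.support ≠ σ.support ∨ (r * σ).support ≠ σ.support

theorem Refl.sub' {σ r : Perm α} (h : Refl σ r) : (r * σ).support ⊆ σ.support :=
  (Perm.support_mul_le r σ).trans (sup_le h.sub le_rfl)

theorem eq_of_union_eq {A B C D : Finset α} (hA : A ⊆ C) (hB : B ⊆ D) (hCD : _root_.Disjoint C D)
    (h : A ∪ B = C ∪ D) : A = C := by
  refine Finset.Subset.antisymm hA fun x hx => ?_
  have hx' : x ∈ A ∪ B := h.symm ▸ Finset.mem_union_left D hx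
  exact (Finset.mem_union.1 hx').resolve_right fun hxB => Finset.disjoint_left.1 hCD hx (hB hxB)

theorem Refl.mul {σ τ r t : Perm α} (hd : Perm.Disjoint σ τ) (hσ : σ ≠ 1) (h1 : Refl σ r) (h2 : Refl τ t) :
    Refl (σ * τ) (r * t) ∧ (r * t).support.card = r.support.card + t.support.card ∧
      ((r * t) * (σ * τ)).support.card = (r * σ).support.card + (t * τ).support.card := by
  have hsd := Perm.disjoint_iff_disjoint_support.1 hd
  have hrt : Perm.Disjoint r t := Perm.disjoint_iff_disjoint_support.2 (hsd.mono h1.sub h2.sub)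
  have hts : Perm.Disjoint t σ := Perm.disjoint_iff_disjoint_support.2 (hsd.symm.mono h2.sub le_rfl)
  have hss : Perm.Disjoint (r * σ) (t * τ) :=
    Perm.disjoint_iff_disjoint_support.2 (hsd.mono h1.sub' h2.sub')
  have hprod : (r * t) * (σ * τ) = (r * σ) * (t * τ) := by
    rw [mul_assoc r t, ← mul_assoc t σ, hts.commute.eq, mul_assoc σ t, ← mul_assoc r σ]
  refine ⟨⟨?_, ?_, ?_, fun _ => ?_⟩, hrt.card_support_mul, by rw [hprod]; exact hss.card_support_mul⟩
  · rw [mul_assoc, ← mul_assoc t r, ← hrt.commute.eq, mul_assoc r t, ← mul_assoc r r, h1.invol, h2.invol,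
      one_mul]
  · rw [hprod, mul_assoc, ← mul_assoc (t * τ), ← hss.commute.eq, mul_assoc (r * σ) (t * τ),
      ← mul_assoc (r * σ) (r * σ), h1.invol', h2.invol', one_mul]
  · rw [hrt.support_mul, hd.support_mul]
    exact Finset.union_subset_union h1.sub h2.sub
  · rw [hrt.support_mul, hd.support_mul, hprod, hss.support_mul]
    rcases h1.short hσ with h | h
    · exact Or.inl fun e => h (eq_of_union_eq h1.sub h2.sub hsd e)
    · exact Or.inr fun e => h (eq_of_union_eq h1.sub' h2.sub' hsd e)

/-- A reflection of a cycle fixing a given point. -/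
theorem exists_cycle_refl (c : Perm α) (hc : c.IsCycle) (x₀ : α) (hx : x₀ ∈ c.support) :
    ∃ r : Perm α, Refl c r ∧ r x₀ = x₀ ∧ ∀ i : ℤ, r ((c ^ i) x₀) = (c ^ (-i)) x₀ := by
  classical
  obtain ⟨g, hg⟩ := isConj_iff.1 (hc.isConj hc.inv (by rw [Perm.support_inv]))
  have hgsupp : ∀ y, y ∈ c.support ↔ g y ∈ c.support := by
    intro y
    have e : c.support.map g.toEmbedding = c.support := by
      rw [← Perm.support_conj, hg, Perm.support_inv]
    conv_rhs => rw [← e]
    simp
  obtain ⟨j, hj⟩ := hc.exists_zpow_eq (Perm.mem_support.1 ((hgsupp x₀).1 hx)) (Perm.mem_support.1 hx)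
  set r : Perm α := Perm.ofSubtype ((c ^ j * g).subtypePerm (p := fun y => y ∈ c.support)
    (fun y => by rw [Perm.mul_apply, Perm.zpow_apply_mem_support, ← hgsupp y])) with hr
  have hin : ∀ y ∈ c.support, r y = (c ^ j) (g y) := by
    intro y hy
    rw [hr, Perm.ofSubtype_apply_of_mem _ hy]
    rfl
  have hout : ∀ y ∉ c.support, r y = y := fun y hy => Perm.ofSubtype_apply_of_not_mem _ hy
  have hrx : r x₀ = x₀ := by rw [hin x₀ hx, hj]
  have hgi : ∀ i : ℤ, g * c ^ i = c ^ (-i) * g := by
    intro i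
    rw [← inv_zpow', ← hg, conj_zpow, inv_mul_cancel_right]
  have hrev : ∀ i : ℤ, r ((c ^ i) x₀) = (c ^ (-i)) x₀ := by
    intro i
    rw [hin _ (Perm.zpow_apply_mem_support.2 hx), ← Perm.mul_apply g, hgi, Perm.mul_apply,
      ← Perm.mul_apply (c ^ j), ← zpow_add, add_comm, zpow_add, Perm.mul_apply, hj]
  have hrep : ∀ y ∈ c.support, ∃ i : ℤ, (c ^ i) x₀ = y := fun y hy =>
    hc.exists_zpow_eq (Perm.mem_support.1 hx) (Perm.mem_support.1 hy)
  refine ⟨r, ⟨?_, ?_, fun y hy => ?_, fun _ => Or.inl fun e => ?_⟩, hrx, hrev⟩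
  · ext y
    by_cases hy : y ∈ c.support
    · obtain ⟨i, rfl⟩ := hrep y hy
      rw [Perm.mul_apply, hrev, hrev, neg_neg]; rfl
    · rw [Perm.mul_apply, hout y hy, hout y hy]; rfl
  · ext y
    by_cases hy : y ∈ c.support
    · obtain ⟨i, rfl⟩ := hrep y hy
      have e : ∀ i : ℤ, (r * c) ((c ^ i) x₀) = (c ^ (-(1 + i))) x₀ := by
        intro i
        rw [Perm.mul_apply, ← Perm.mul_apply c, ← zpow_one_add, hrev]
      rw [Perm.mul_apply, e, e, show -(1 + -(1 + i)) = i by ring]; rfl
    · have hcy : c y = y := Perm.notMem_support.1 hy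
      rw [Perm.mul_apply, Perm.mul_apply, Perm.mul_apply, hcy, hout y hy, hcy, hout y hy]; rfl
  · by_contra h
    exact Perm.mem_support.1 hy (hout y h)
  · exact Perm.mem_support.1 (e ▸ hx) hrx

/-- The shifted reflection. -/
theorem Refl.shift {σ r : Perm α} (h : Refl σ r) : Refl σ (r * σ) ∧
    (r * σ * σ).support.card = r.support.card := by
  have he : r * σ * σ = σ⁻¹ * r * σ := by
    have h1 : r * σ * r = σ⁻¹ := by
      have := h.invol'
      rw [← mul_assoc] at this
      exact eq_inv_of_mul_eq_one_left this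
    rw [← h1, mul_assoc (r * σ) r r, h.invol, mul_one]
  have hc : r * σ * σ = σ⁻¹ * r * σ⁻¹⁻¹ := by rw [inv_inv]; exact he
  refine ⟨⟨h.invol', ?_, h.sub', fun hne => ?_⟩, by rw [hc]; exact Perm.card_support_conj⟩
  · rw [he, show σ⁻¹ * r * σ * (σ⁻¹ * r * σ) = σ⁻¹ * (r * r) * σ by group, h.invol, mul_one, inv_mul_cancel]
  · rcases h.short hne with h1 | h1
    · refine Or.inr fun e => h1 (Finset.eq_of_subset_of_card_le h.sub ?_)
      rw [← e, hc, Perm.card_support_conj]
    · exact Or.inl h1

/-- The balanced reflections. -/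
def Balanced (σ : Perm α) : Prop :=
  (Perm.sign σ = 1 → ∃ r, Refl σ r ∧ r.support.card = (r * σ).support.card) ∧
    (Perm.sign σ = -1 → (∃ r, Refl σ r ∧ r.support.card = (r * σ).support.card + 2) ∧
      ∃ r, Refl σ r ∧ (r * σ).support.card = r.support.card + 2)

theorem balanced_cycle (c : Perm α) (hc : c.IsCycle) : Balanced c := by
  classical
  obtain ⟨x₀, hx0, -⟩ := id hc
  have hx : x₀ ∈ c.support := Perm.mem_support.2 hx0
  obtain ⟨r, hr, hrx, hrev⟩ := exists_cycle_refl c hc x₀ hx
  set l := orderOf c with hl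
  have hls : c.support.card = l := hc.orderOf.symm
  have hfixz : ∀ i : ℤ, (c ^ i) x₀ = x₀ ↔ (l : ℤ) ∣ i := by
    intro i
    constructor
    · intro h
      rw [hl, orderOf_dvd_iff_zpow_eq_one]
      ext y
      by_cases hy : y ∈ c.support
      · obtain ⟨k, rfl⟩ := hc.exists_zpow_eq (Perm.mem_support.1 hx) (Perm.mem_support.1 hy)
        rw [← Perm.mul_apply, ← zpow_add, add_comm, zpow_add, Perm.mul_apply, h]; rfl
      · exact Perm.notMem_support.1 fun h' => hy (Perm.support_zpow_le c i h')
    · intro h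
      rw [orderOf_dvd_iff_zpow_eq_one.1 (hl ▸ h)]; rfl
  constructor
  · intro hs
    have hodd : Odd l := by
      rw [hc.sign, hls] at hs
      rcases Nat.even_or_odd l with he | ho
      · rw [he.neg_one_pow] at hs; exact absurd hs (by decide)
      · exact ho
    obtain ⟨j, hj⟩ := hodd
    refine ⟨r, hr, ?_⟩
    have hcr : ∀ k : ℕ, (c⁻¹) ^ k * r = r * c ^ k := by
      have h1 : c⁻¹ * r = r * c := by
        calc c⁻¹ * r = ((r * c) * (r * c)) * (c⁻¹ * r) := by rw [hr.invol', one_mul]
          _ = r * c * (r * r) := by group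
          _ = r * c := by rw [hr.invol, mul_one]
      intro k
      induction k with
      | zero => simp
      | succ k ih => rw [pow_succ, mul_assoc, h1, ← mul_assoc, ih, mul_assoc, ← pow_succ]
    have he : r * c = (c ^ (j + 1))⁻¹ * r * c ^ (j + 1) := by
      rw [← inv_pow, hcr, mul_assoc, ← pow_add, show j + 1 + (j + 1) = l + 1 by omega, pow_succ, hl,
        pow_orderOf_eq_one, one_mul]
    rw [he]
    conv_lhs => rw [← Perm.card_support_conj (σ := (c ^ (j + 1))⁻¹) (τ := r), inv_inv]
  · intro hs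
    have heven : Even l := by
      rw [hc.sign, hls] at hs
      rcases Nat.even_or_odd l with he | ho
      · exact he
      · rw [ho.neg_one_pow] at hs; exact absurd hs (by decide)
    obtain ⟨j, hj⟩ := heven
    have hpos : 0 < l := hl ▸ orderOf_pos c
    have hs0 : (r * c).support = c.support := by
      refine Finset.Subset.antisymm hr.sub' fun y hy => Perm.mem_support.2 fun e => ?_
      obtain ⟨i, rfl⟩ := hc.exists_zpow_eq (Perm.mem_support.1 hx) (Perm.mem_support.1 hy)
      rw [Perm.mul_apply, ← Perm.mul_apply c, ← zpow_one_add, hrev] at e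
      have h1 : (c ^ (-(1 + i) - i)) x₀ = x₀ := by
        rw [show -(1 + i) - i = -i + -(1 + i) by ring, zpow_add, Perm.mul_apply, e, ← Perm.mul_apply,
          ← zpow_add, neg_add_cancel, zpow_zero]; rfl
      obtain ⟨q, hq⟩ := (hfixz _).1 h1
      have : (l : ℤ) * q = 2 * (j * q) := by rw [hj]; push_cast; ring
      omega
    have hmid : (c ^ (j : ℤ)) x₀ ∈ c.support := Perm.zpow_apply_mem_support.2 hx
    have hne : (c ^ (j : ℤ)) x₀ ≠ x₀ := by
      intro e
      have := Int.le_of_dvd (by omega) ((hfixz _).1 e)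
      omega
    have hr0 : r.support = c.support \ {x₀, (c ^ (j : ℤ)) x₀} := by
      ext y
      rw [Finset.mem_sdiff, Finset.mem_insert, Finset.mem_singleton]
      constructor
      · intro hy
        refine ⟨hr.sub hy, ?_⟩
        rintro (rfl | rfl)
        · exact Perm.mem_support.1 hy hrx
        · apply Perm.mem_support.1 hy
          rw [hrev]
          have h1 : (c ^ ((j : ℤ) + j)) x₀ = x₀ := (hfixz _).2 ⟨1, by rw [hj]; push_cast; ring⟩
          calc (c ^ (-(j : ℤ))) x₀ = (c ^ (-(j : ℤ))) ((c ^ ((j : ℤ) + j)) x₀) := by rw [h1]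
            _ = (c ^ (j : ℤ)) x₀ := by rw [← Perm.mul_apply, ← zpow_add]; ring_nf
      · rintro ⟨hy, hy'⟩
        push Not at hy'
        refine Perm.mem_support.2 fun e => ?_
        obtain ⟨i, rfl⟩ := hc.exists_zpow_eq (Perm.mem_support.1 hx) (Perm.mem_support.1 hy)
        rw [hrev] at e
        have h1 : (c ^ (i + i)) x₀ = x₀ := by
          rw [zpow_add, Perm.mul_apply, ← e, ← Perm.mul_apply, ← zpow_add, add_neg_cancel, zpow_zero]; rfl
        obtain ⟨q, hq⟩ := (hfixz _).1 h1
        have hq' : i = j * q := by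
          have : (l : ℤ) * q = 2 * (j * q) := by rw [hj]; push_cast; ring
          omega
        rcases Int.even_or_odd q with ⟨t, ht⟩ | ⟨t, ht⟩
        · exact hy'.1 ((hfixz _).2 ⟨t, by rw [hq', ht, hj]; push_cast; ring⟩)
        · apply hy'.2
          rw [show i = j + (i - j) by ring, zpow_add, Perm.mul_apply,
            (hfixz (i - j)).2 ⟨t, by rw [hq', ht, hj]; push_cast; ring⟩]
    have hcount : (r * c).support.card = r.support.card + 2 := by
      rw [hs0, hr0, Finset.card_sdiff_of_subset (by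
        intro y hy
        rcases Finset.mem_insert.1 hy with rfl | hy
        · exact hx
        · rw [Finset.mem_singleton.1 hy]; exact hmid), Finset.card_pair hne.symm]
      have := hc.two_le_card_support
      omega
    obtain ⟨hr', hcard'⟩ := hr.shift
    exact ⟨⟨r * c, hr', by rw [hcard']; exact hcount⟩, r, hr, hcount⟩

/-- Every permutation is balanced. -/
theorem balanced (σ : Perm α) : Balanced σ := by
  induction σ using Perm.cycle_induction_on with
  | base_one =>
    exact ⟨fun _ => ⟨1, ⟨by simp, by simp, by simp, fun h => absurd rfl h⟩, by simp⟩,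
      fun h => absurd (h.symm.trans (map_one Perm.sign)) (by decide)⟩
  | base_cycles σ hσ => exact balanced_cycle σ hσ
  | induction_disjoint σ τ hd hσ h1 h2 =>
    have hne : σ ≠ 1 := hσ.ne_one
    constructor
    · intro hs
      rw [map_mul] at hs
      rcases Int.units_eq_one_or (Perm.sign σ) with e | e
      · rw [e, one_mul] at hs
        obtain ⟨r, hr, hrc⟩ := h1.1 e
        obtain ⟨t, ht, htc⟩ := h2.1 hs
        obtain ⟨h, hc1, hc2⟩ := hr.mul hd hne ht
        exact ⟨r * t, h, by omega⟩
      · have e' : Perm.sign τ = -1 := by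
          rw [e, neg_one_mul, neg_eq_iff_eq_neg] at hs; exact hs
        obtain ⟨⟨r, hr, hrc⟩, -⟩ := h1.2 e
        obtain ⟨-, t, ht, htc⟩ := h2.2 e'
        obtain ⟨h, hc1, hc2⟩ := hr.mul hd hne ht
        exact ⟨r * t, h, by omega⟩
    · intro hs
      rw [map_mul] at hs
      rcases Int.units_eq_one_or (Perm.sign σ) with e | e
      · rw [e, one_mul] at hs
        obtain ⟨r, hr, hrc⟩ := h1.1 e
        obtain ⟨⟨t, ht, htc⟩, t', ht', htc'⟩ := h2.2 hs
        obtain ⟨h, hc1, hc2⟩ := hr.mul hd hne ht
        obtain ⟨h', hc1', hc2'⟩ := hr.mul hd hne ht'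
        exact ⟨⟨r * t, h, by omega⟩, r * t', h', by omega⟩
      · have e' : Perm.sign τ = 1 := by
          rw [e, neg_one_mul, neg_inj] at hs; exact hs
        obtain ⟨⟨r, hr, hrc⟩, r', hr', hrc'⟩ := h1.2 e
        obtain ⟨t, ht, htc⟩ := h2.1 e'
        obtain ⟨h, hc1, hc2⟩ := hr.mul hd hne ht
        obtain ⟨h', hc1', hc2'⟩ := hr'.mul hd hne ht
        exact ⟨⟨r * t, h, by omega⟩, r' * t, h', by omega⟩

end CfsgLib.Invol.AltCover
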