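import Mathlib
import Cfsg.Agent.Lib.Invol.AltCover.Reflect

/-!
# Even permutations as commutators whose first entry has two transpositions as cycles
-/

set_option autoImplicit false

namespace CfsgLib.Invol.AltCover

open Equiv Equiv.Perm

variable {α : Type*} [Fintype α] [DecidableEq α]

theorem disjoint_swaps {a b c d : α} (ac : a ≠ c) (ad : a ≠ d) (bc : b ≠ c) (bd : b ≠ d) :
    Perm.Disjoint (swap a b) (swap c d) := by
  intro z
  by_cases h1 : z = a
  · subst h1; exact Or.inr (swap_apply_of_ne_of_ne ac ad)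
  by_cases h2 : z = b
  · subst h2; exact Or.inr (swap_apply_of_ne_of_ne bc bd)
  exact Or.inl (swap_apply_of_ne_of_ne h1 h2)

theorem klein_product {a b c d : α} (ab : a ≠ b) (ac : a ≠ c) (ad : a ≠ d) (bc : b ≠ c) (bd : b ≠ d)
    (cd : c ≠ d) : swap a b * swap c d = (swap a c * swap b d) * (swap a d * swap b c) := by
  ext z
  by_cases h1 : z = a
  · subst h1; simp [Perm.mul_apply, swap_apply_of_ne_of_ne, ab, ac, ad, bc, bd, cd, ab.symm, ac.symm, ad.symm, bc.symm, bd.symm, cd.symm]
  by_cases h2 : z = b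
  · subst h2; simp [Perm.mul_apply, swap_apply_of_ne_of_ne, ab, ac, ad, bc, bd, cd, ab.symm, ac.symm, ad.symm, bc.symm, bd.symm, cd.symm]
  by_cases h3 : z = c
  · subst h3; simp [Perm.mul_apply, swap_apply_of_ne_of_ne, ab, ac, ad, bc, bd, cd, ab.symm, ac.symm, ad.symm, bc.symm, bd.symm, cd.symm]
  by_cases h4 : z = d
  · subst h4; simp [Perm.mul_apply, swap_apply_of_ne_of_ne, ab, ac, ad, bc, bd, cd, ab.symm, ac.symm, ad.symm, bc.symm, bd.symm, cd.symm]
  simp [Perm.mul_apply, swap_apply_of_ne_of_ne, h1, h2, h3, h4]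

theorem invol_cycleType (r : Perm α) (hr : r * r = 1) :
    r.cycleType = Multiset.replicate r.cycleType.card 2 ∧ r.support.card = r.cycleType.card * 2 ∧
      Perm.sign r = (-1) ^ r.cycleType.card := by
  haveI : Fact (Nat.Prime 2) := ⟨Nat.prime_two⟩
  have h : r.cycleType = Multiset.replicate r.cycleType.card 2 :=
    Perm.cycleType_of_pow_prime_eq_one (by rw [pow_two]; exact hr)
  have h2 : r.support.card = r.cycleType.card * 2 := by
    conv_lhs => rw [← Perm.sum_cycleType, h]
    simp
  refine ⟨h, h2, ?_⟩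
  rw [Perm.sign_of_cycleType, Perm.sum_cycleType, h2, pow_add, pow_mul', neg_one_sq, one_pow, one_mul]

theorem invol_apply {r : Perm α} (hr : r * r = 1) (y : α) : r (r y) = y := by
  rw [← Perm.mul_apply, hr]; rfl

/-- Two transposition cycles of a commutator with conjugate involution-like factor. -/
theorem of_isConj (a a' : Perm α) (p q u v : α) (hnd : [p, q, u, v].Nodup) (hp : a p = q) (hq : a q = p)
    (hu : a u = v) (hv : a v = u) (ha : Perm.sign a = 1) (hc : a.cycleType = a'⁻¹.cycleType) :
    ∃ a₀ b : Perm α, ∃ p q u v : α, [p, q, u, v].Nodup ∧ Perm.sign a₀ = 1 ∧ Perm.sign b = 1 ∧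
      a₀ p = q ∧ a₀ q = p ∧ a₀ u = v ∧ a₀ v = u ∧ a * a' = a₀ * b * a₀⁻¹ * b⁻¹ := by
  obtain ⟨g, hg⟩ := isConj_iff.1 (Perm.isConj_iff_cycleType_eq.2 hc)
  have e : ∀ g : Perm α, g * a * g⁻¹ = a'⁻¹ → a * a' = a * g * a⁻¹ * g⁻¹ := by
    intro g hg
    have : a' = (g * a * g⁻¹)⁻¹ := by rw [hg, inv_inv]
    rw [this]; group
  rcases Int.units_eq_one_or (Perm.sign g) with h | h
  · exact ⟨a, g, p, q, u, v, hnd, ha, h, hp, hq, hu, hv, e g hg⟩
  · have hpq : p ≠ q := by simp at hnd; tauto
    refine ⟨a, g * swap p q, p, q, u, v, hnd, ha, by rw [map_mul, h, Perm.sign_swap hpq]; decide, hp, hq, hu, hv,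
      e _ ?_⟩
    have hcomm : swap p q * a * (swap p q)⁻¹ = a := by
      have h1 : a * swap p q * a⁻¹ = swap p q := by
        rw [← Equiv.swap_apply_apply, hp, hq, swap_comm]
      calc swap p q * a * (swap p q)⁻¹ = (a * swap p q * a⁻¹) * a * (swap p q)⁻¹ := by rw [h1]
        _ = a := by group
    rw [show g * swap p q * a * (g * swap p q)⁻¹ = g * (swap p q * a * (swap p q)⁻¹) * g⁻¹ by group,
      hcomm, hg]

theorem of_even (r s : Perm α) (hr : r * r = 1) (hs : s * s = 1) (hcard : r.support.card = s.support.card)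
    (hsign : Perm.sign r = 1) (h4 : 4 ≤ r.support.card) :
    ∃ a b : Perm α, ∃ p q u v : α, [p, q, u, v].Nodup ∧ Perm.sign a = 1 ∧ Perm.sign b = 1 ∧
      a p = q ∧ a q = p ∧ a u = v ∧ a v = u ∧ r * s = a * b * a⁻¹ * b⁻¹ := by
  obtain ⟨h1, h2, -⟩ := invol_cycleType r hr
  obtain ⟨h1', h2', -⟩ := invol_cycleType s hs
  obtain ⟨p, hp⟩ := Finset.card_pos.1 (show 0 < r.support.card by omega)
  obtain ⟨u, hu, hu'⟩ := Finset.exists_mem_notMem_of_card_lt_card
    (show ({p, r p} : Finset α).card < r.support.card from lt_of_le_of_lt Finset.card_le_two (by omega))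
  simp only [Finset.mem_insert, Finset.mem_singleton, not_or] at hu'
  have hp' := Perm.mem_support.1 hp
  have hu'' := Perm.mem_support.1 hu
  refine of_isConj r s p (r p) u (r u) ?_ rfl (invol_apply hr p) rfl (invol_apply hr u) hsign ?_
  · simp only [List.nodup_cons, List.mem_cons, List.not_mem_nil, or_false, not_or]
    refine ⟨⟨Ne.symm hp', Ne.symm hu'.1, fun e => hu'.2 ?_⟩, ⟨Ne.symm hu'.2, fun e => hu'.1 (r.injective e.symm)⟩,
      Ne.symm hu'', not_false, List.nodup_nil⟩
    rw [e, invol_apply hr]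
  · rw [inv_eq_of_mul_eq_one_right hs, h1, h1', show r.cycleType.card = s.cycleType.card by omega]

theorem mul_swap_cycleType (r : Perm α) (hr : r * r = 1) (x y : α) (hx : r x = x) (hy : r y ≠ y) :
    (r * swap x y).cycleType + {2} = r.cycleType + {3} := by
  set y' := r y with hy'
  have hxy : x ≠ y := fun e => hy (by rw [hy', ← e]; exact hx)
  have hxy' : x ≠ y' := fun e => hxy (r.injective (by rw [hx, ← hy']; exact e))
  have hry' : r y' = y := invol_apply hr y
  set t := r * swap y y' with ht
  have hty : t y = y := by rw [ht, Perm.mul_apply, swap_apply_left, hry']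
  have hty' : t y' = y' := by rw [ht, Perm.mul_apply, swap_apply_right, hy']
  have htx : t x = x := by rw [ht, Perm.mul_apply, swap_apply_of_ne_of_ne hxy hxy', hx]
  have hd : ∀ f : Perm α, (∀ z, z ≠ x → z ≠ y → z ≠ y' → f z = z) → Perm.Disjoint t f := by
    intro f hf z
    by_cases h1 : z = x
    · exact Or.inl (h1 ▸ htx)
    by_cases h2 : z = y
    · exact Or.inl (h2 ▸ hty)
    by_cases h3 : z = y'
    · exact Or.inl (h3 ▸ hty')
    exact Or.inr (hf z h1 h2 h3)
  have hr2 : r = t * swap y y' := by rw [ht, mul_assoc, swap_mul_self, mul_one]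
  have hd1 : Perm.Disjoint t (swap y y') := hd _ fun z _ h2 h3 => swap_apply_of_ne_of_ne h2 h3
  have hd2 : Perm.Disjoint t (swap y y' * swap x y) := hd _ fun z h1 h2 h3 => by
    rw [Perm.mul_apply, swap_apply_of_ne_of_ne h1 h2, swap_apply_of_ne_of_ne h2 h3]
  have e3 : (swap y y' * swap x y).cycleType = {3} := by
    rw [swap_comm x y]
    exact Perm.isThreeCycle_swap_mul_swap_same (Ne.symm hy) hxy.symm hxy'.symm
  have e2 : (swap y y').cycleType = {2} := by
    rw [(Perm.isCycle_swap (Ne.symm hy)).cycleType, Perm.support_swap (Ne.symm hy), Finset.card_pair (Ne.symm hy)]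
  rw [hr2, mul_assoc, hd2.cycleType_mul, hd1.cycleType_mul, e2, e3, add_right_comm]

theorem of_odd (r s : Perm α) (hr : r * r = 1) (hs : s * s = 1) (hcard : r.support.card = s.support.card)
    (hsign : Perm.sign r = -1) (h6 : 6 ≤ r.support.card) (x y : α) (hx : r x = x) (hx' : s x ≠ x)
    (hy : s y = y) (hy' : r y ≠ y) :
    ∃ a b : Perm α, ∃ p q u v : α, [p, q, u, v].Nodup ∧ Perm.sign a = 1 ∧ Perm.sign b = 1 ∧
      a p = q ∧ a q = p ∧ a u = v ∧ a v = u ∧ r * s = a * b * a⁻¹ * b⁻¹ := by
  obtain ⟨h1, h2, -⟩ := invol_cycleType r hr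
  obtain ⟨h1', h2', -⟩ := invol_cycleType s hs
  have hxy : x ≠ y := fun e => hx' (e ▸ hy)
  obtain ⟨p, hp, hp'⟩ := Finset.exists_mem_notMem_of_card_lt_card
    (show ({y, r y} : Finset α).card < r.support.card from lt_of_le_of_lt Finset.card_le_two (by omega))
  simp only [Finset.mem_insert, Finset.mem_singleton, not_or] at hp'
  obtain ⟨u, hu, hu'⟩ := Finset.exists_mem_notMem_of_card_lt_card
    (show ({y, r y, p, r p} : Finset α).card < r.support.card from lt_of_le_of_lt Finset.card_le_four (by omega))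
  simp only [Finset.mem_insert, Finset.mem_singleton, not_or] at hu'
  rw [Perm.mem_support] at hp hu
  set a := r * swap x y with ha
  have hmove : ∀ z, r z ≠ z → z ≠ y → z ≠ r y → a z = r z ∧ a (r z) = z := by
    intro z hz hzy hzy'
    have hzx : z ≠ x := fun e => hz (by rw [e, hx])
    have hrzx : r z ≠ x := fun e => hzx (r.injective (e.trans hx.symm))
    have hrzy : r z ≠ y := fun e => hzy' (by rw [← e, invol_apply hr])
    exact ⟨by rw [ha, Perm.mul_apply, swap_apply_of_ne_of_ne hzx hzy],
      by rw [ha, Perm.mul_apply, swap_apply_of_ne_of_ne hrzx hrzy, invol_apply hr]⟩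
  have hsum : r * s = a * (swap x y * s) := by
    rw [ha, mul_assoc r, ← mul_assoc (swap x y), swap_mul_self, one_mul]
  rw [hsum]
  refine of_isConj a (swap x y * s) p (r p) u (r u) ?_ (hmove p hp hp'.1 hp'.2).1 (hmove p hp hp'.1 hp'.2).2
    (hmove u hu hu'.1 hu'.2.1).1 (hmove u hu hu'.1 hu'.2.1).2 ?_ ?_
  · simp only [List.nodup_cons, List.mem_cons, List.not_mem_nil, or_false, not_or]
    refine ⟨⟨Ne.symm hp, Ne.symm hu'.2.2.1, fun e => hu'.2.2.2 ?_⟩,
      ⟨Ne.symm hu'.2.2.2, fun e => hu'.2.2.1 (r.injective e.symm)⟩, Ne.symm hu, not_false, List.nodup_nil⟩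
    rw [e, invol_apply hr]
  · rw [ha, map_mul, hsign, Perm.sign_swap hxy]; decide
  · rw [mul_inv_rev, swap_inv, inv_eq_of_mul_eq_one_right hs]
    have e1 := mul_swap_cycleType r hr x y hx hy'
    have e2 := mul_swap_cycleType s hs y x hy hx'
    rw [swap_comm y x] at e2
    rw [h1, show r.cycleType.card = s.cycleType.card by omega, ← h1', ← e2] at e1
    exact add_right_cancel e1

/-- The decomposition of nontrivial even permutations. -/
theorem exists_commutator (h5 : 5 ≤ Fintype.card α) (σ : Perm α) (hσ : σ ≠ 1) (hsign : Perm.sign σ = 1) :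
    ∃ a b : Perm α, ∃ p q u v : α, [p, q, u, v].Nodup ∧ Perm.sign a = 1 ∧ Perm.sign b = 1 ∧
      a p = q ∧ a q = p ∧ a u = v ∧ a v = u ∧ σ = a * b * a⁻¹ * b⁻¹ := by
  obtain ⟨r, hR, hcard⟩ := (balanced σ).1 hsign
  set s := r * σ with hs_def
  have hσe : σ = r * s := by rw [hs_def, ← mul_assoc, hR.invol, one_mul]
  obtain ⟨h1, h2, h3⟩ := invol_cycleType r hR.invol
  have hs : s * s = 1 := hR.invol'
  obtain ⟨h1', h2', -⟩ := invol_cycleType s hs
  have hpos : r.cycleType.card ≠ 0 := by
    intro e
    have hr1 : r = 1 := Perm.cycleType_eq_zero.1 (Multiset.card_eq_zero.1 e)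
    have hs1 : s = 1 := Perm.cycleType_eq_zero.1 (Multiset.card_eq_zero.1 (by omega))
    exact hσ (by rw [hσe, hr1, hs1, one_mul])
  rcases Nat.lt_or_ge r.cycleType.card 2 with hk | hk
  · -- two transpositions
    obtain ⟨a, b, hab, rfl⟩ := Perm.card_support_eq_two.1 (show r.support.card = 2 by omega)
    obtain ⟨c, d, hcd, hcd'⟩ := Perm.card_support_eq_two.1 (show s.support.card = 2 by omega)
    rw [hcd'] at hσe hs
    by_cases hdis : a ≠ c ∧ a ≠ d ∧ b ≠ c ∧ b ≠ d
    · obtain ⟨n1, n2, n3, n4⟩ := hdis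
      have e := klein_product hab n1 n2 n3 n4 hcd
      have d1 : Perm.Disjoint (swap a c) (swap b d) := disjoint_swaps hab n2 (Ne.symm n3) hcd
      have d2 : Perm.Disjoint (swap a d) (swap b c) := disjoint_swaps hab n1 (Ne.symm n4) (Ne.symm hcd)
      rw [hσe, e]
      refine of_even _ _ ?_ ?_ ?_ ?_ ?_
      · rw [mul_assoc, ← mul_assoc (swap b d), ← d1.commute.eq, mul_assoc (swap a c) (swap b d), swap_mul_self,
          mul_one, swap_mul_self]
      · rw [mul_assoc, ← mul_assoc (swap b c), ← d2.commute.eq, mul_assoc (swap a d) (swap b c), swap_mul_self,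
          mul_one, swap_mul_self]
      · rw [d1.card_support_mul, d2.card_support_mul, Perm.card_support_swap n1, Perm.card_support_swap n4,
          Perm.card_support_swap n2, Perm.card_support_swap n3]
      · rw [map_mul, Perm.sign_swap n1, Perm.sign_swap n4]; decide
      · rw [d1.card_support_mul, Perm.card_support_swap n1, Perm.card_support_swap n4]
    · -- a common point: three points, two further points
      have hthree : ({a, b, c, d} : Finset α).card ≤ 3 := by
        by_cases e1 : a = c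
        · subst e1
          rw [show ({a, b, a, d} : Finset α) = {a, b, d} by ext z; simp; tauto]; exact Finset.card_le_three
        by_cases e2 : a = d
        · subst e2
          rw [show ({a, b, c, a} : Finset α) = {a, b, c} by ext z; simp; tauto]; exact Finset.card_le_three
        by_cases e3 : b = c
        · subst e3
          rw [show ({a, b, b, d} : Finset α) = {a, b, d} by ext z; simp]; exact Finset.card_le_three
        by_cases e4 : b = d
        · subst e4
          rw [show ({a, b, c, b} : Finset α) = {a, b, c} by ext z; simp; tauto]; exact Finset.card_le_three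
        exact absurd ⟨e1, e2, e3, e4⟩ hdis
      obtain ⟨p, -, hp⟩ := Finset.exists_mem_notMem_of_card_lt_card
        (show ({a, b, c, d} : Finset α).card < (Finset.univ : Finset α).card by rw [Finset.card_univ]; omega)
      obtain ⟨q, -, hq⟩ := Finset.exists_mem_notMem_of_card_lt_card
        (show (insert p ({a, b, c, d} : Finset α)).card < (Finset.univ : Finset α).card by
          rw [Finset.card_univ]; exact lt_of_le_of_lt (Finset.card_insert_le _ _) (by omega))
      simp only [Finset.mem_insert, Finset.mem_singleton, not_or] at hp hq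
      obtain ⟨p1, p2, p3, p4⟩ := hp
      obtain ⟨qp, q1, q2, q3, q4⟩ := hq
      have d1 : Perm.Disjoint (swap a b) (swap p q) :=
        disjoint_swaps (Ne.symm p1) (Ne.symm q1) (Ne.symm p2) (Ne.symm q2)
      have d2 : Perm.Disjoint (swap c d) (swap p q) :=
        disjoint_swaps (Ne.symm p3) (Ne.symm q3) (Ne.symm p4) (Ne.symm q4)
      have e : swap a b * swap c d = (swap a b * swap p q) * (swap c d * swap p q) := by
        rw [mul_assoc (swap a b) (swap p q), ← mul_assoc (swap p q), ← d2.commute.eq, mul_assoc (swap c d),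
          swap_mul_self, mul_one]
      rw [hσe, e]
      refine of_even _ _ ?_ ?_ ?_ ?_ ?_
      · rw [mul_assoc, ← mul_assoc (swap p q), ← d1.commute.eq, mul_assoc (swap a b) (swap p q), swap_mul_self,
          mul_one, swap_mul_self]
      · rw [mul_assoc, ← mul_assoc (swap p q), ← d2.commute.eq, mul_assoc (swap c d) (swap p q), swap_mul_self,
          mul_one, swap_mul_self]
      · rw [d1.card_support_mul, d2.card_support_mul, Perm.card_support_swap hab, Perm.card_support_swap hcd]
      · rw [map_mul, Perm.sign_swap hab, Perm.sign_swap (Ne.symm qp)]; decide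
      · rw [d1.card_support_mul, Perm.card_support_swap hab, Perm.card_support_swap (Ne.symm qp)]
  rw [hσe]
  rcases Nat.even_or_odd r.cycleType.card with he | ho
  · exact of_even r s hR.invol hs hcard (by rw [h3, he.neg_one_pow]) (by omega)
  have h6 : 6 ≤ r.support.card := by obtain ⟨t, ht⟩ := ho; omega
  have hne : r.support ≠ s.support := by
    intro e
    rcases hR.short hσ with h | h
    · obtain ⟨z, hz, hz'⟩ := Finset.exists_of_ssubset (Finset.ssubset_iff_subset_ne.2 ⟨hR.sub, h⟩)
      refine Perm.mem_support.1 hz ?_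
      rw [hσe, Perm.mul_apply, Perm.notMem_support.1 (e ▸ hz' : z ∉ s.support), Perm.notMem_support.1 hz']
    · obtain ⟨z, hz, hz'⟩ := Finset.exists_of_ssubset (Finset.ssubset_iff_subset_ne.2 ⟨hR.sub', h⟩)
      refine Perm.mem_support.1 hz ?_
      rw [hσe, Perm.mul_apply, Perm.notMem_support.1 hz', Perm.notMem_support.1 (e.symm ▸ hz' : z ∉ r.support)]
  obtain ⟨x, hx, hx'⟩ := Finset.not_subset.1 fun hsub => hne (Finset.eq_of_subset_of_card_le hsub (le_of_eq hcard)).symm
  obtain ⟨y, hy, hy'⟩ := Finset.not_subset.1 fun hsub => hne (Finset.eq_of_subset_of_card_le hsub (le_of_eq hcard.symm))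
  exact of_odd r s hR.invol hs hcard (by rw [h3, ho.neg_one_pow]) h6 x y (Perm.notMem_support.1 hx')
    (Perm.mem_support.1 hx) (Perm.notMem_support.1 hy') (Perm.mem_support.1 hy)

end CfsgLib.Invol.AltCover
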