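import Mathlib
import Cfsg.Agent.Lib.Invol.AltCover.Anti
import Cfsg.Agent.Lib.Invol.AltCover.Decompose

/-!
# Every element of a perfect double cover of an alternating group is a commutator
-/

set_option autoImplicit false

open Equiv Equiv.Perm Subgroup
open scoped commutatorElement
open CfsgLib.Char.AltPres (gen pt)
open CfsgLib.Char.AltMultiplier (commutator_eq_of_map_eq comm_ker conj_ker eq_mul_of_map_eq)

namespace CfsgLib.Invol.AltCover

theorem exists_perm_four {α : Type*} [Fintype α] [DecidableEq α] (a b : Fin 4 → α)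
    (ha : Function.Injective a) (hb : Function.Injective b) : ∃ f : Perm α, ∀ i, f (a i) = b i := by
  classical
  refine ⟨((Equiv.ofInjective a ha).symm.trans (Equiv.ofInjective b hb)).extendSubtype, fun i => ?_⟩
  rw [Equiv.extendSubtype_apply_of_mem _ _ (Set.mem_range_self i)]
  simp

variable {Γ : Type*} [Group Γ] [Finite Γ]

theorem is_commutator {n : ℕ} (hn : 5 ≤ n) (hperf : _root_.commutator Γ = ⊤)
    (hZ : Nat.card (center Γ) = 2) (e : Γ ⧸ center Γ ≃* alternatingGroup (Fin n)) (g : Γ) :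
    ∃ a b : Γ, a * b * a⁻¹ * b⁻¹ = g := by
  classical
  haveI : NeZero n := ⟨by omega⟩
  set π : Γ →* Perm (Fin n) :=
    (alternatingGroup (Fin n)).subtype.comp (e.toMonoidHom.comp (QuotientGroup.mk' (center Γ))) with hπdef
  have hker : π.ker = center Γ := by
    ext x
    rw [MonoidHom.mem_ker, hπdef, MonoidHom.comp_apply, map_eq_one_iff _ (alternatingGroup (Fin n)).subtype_injective,
      MonoidHom.comp_apply]
    exact (map_eq_one_iff _ e.injective).trans (QuotientGroup.eq_one_iff x)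
  have hc : π.ker ≤ center Γ := le_of_eq hker
  have hlift : ∀ f : Perm (Fin n), Perm.sign f = 1 → ∃ X, π X = f := by
    intro f hf
    obtain ⟨q, hq⟩ := e.surjective ⟨f, Equiv.Perm.mem_alternatingGroup.2 hf⟩
    obtain ⟨X, rfl⟩ := QuotientGroup.mk'_surjective (center Γ) q
    exact ⟨X, congrArg Subtype.val hq⟩
  obtain ⟨z, hz1, hzc, hzz, hz⟩ := Cfsg.Agent.Lib.Spor.Spin.center_pair hZ
  have hcomm_mem : ∀ X Y : Γ, π X * π Y = π Y * π X → ⁅X, Y⁆ ∈ center Γ := fun X Y h => by
    rw [← hker, MonoidHom.mem_ker, map_commutatorElement, commutatorElement_eq_one_iff_mul_comm]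
    exact h
  -- regular four groups
  have klein : ∀ p q u v : Fin n, [p, q, u, v].Nodup → ∀ X Y : Γ, π X = swap p q * swap u v →
      π Y = swap p u * swap q v → ⁅X, Y⁆ ≠ 1 := by
    intro p q u v hnd X Y hX hY
    have hb : Function.Injective (![q, p, u, v] : Fin 4 → Fin n) := by
      simp only [List.nodup_cons, List.mem_cons, List.not_mem_nil, or_false, not_or] at hnd
      obtain ⟨⟨n1, n2, n3⟩, ⟨n4, n5⟩, n6, -⟩ := hnd
      intro i j hij
      fin_cases i <;> fin_cases j <;> simp_all [Ne.symm]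
    have ha : Function.Injective (fun i : Fin 4 => pt n i.1) := fun i j h => by
      by_contra hij
      exact CfsgLib.Char.AltPres.pt_ne (by omega) (by omega) (fun h' => hij (Fin.ext h')) h
    obtain ⟨f, hf⟩ := exists_perm_four _ _ ha hb
    have f0 : f (pt n 0) = q := hf 0
    have f1 : f (pt n 1) = p := hf 1
    have f2 : f (pt n 2) = u := hf 2
    have f3 : f (pt n 3) = v := hf 3
    have n01 : pt n 0 ≠ pt n 1 := CfsgLib.Char.AltPres.pt_ne (by omega) (by omega) (by omega)
    have n02 : pt n 0 ≠ pt n 2 := CfsgLib.Char.AltPres.pt_ne (by omega) (by omega) (by omega)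
    have n03 : pt n 0 ≠ pt n 3 := CfsgLib.Char.AltPres.pt_ne (by omega) (by omega) (by omega)
    have n12 : pt n 1 ≠ pt n 2 := CfsgLib.Char.AltPres.pt_ne (by omega) (by omega) (by omega)
    have n13 : pt n 1 ≠ pt n 3 := CfsgLib.Char.AltPres.pt_ne (by omega) (by omega) (by omega)
    have n23 : pt n 2 ≠ pt n 3 := CfsgLib.Char.AltPres.pt_ne (by omega) (by omega) (by omega)
    have hg1 : gen n 1 = swap (pt n 0) (pt n 1) * swap (pt n 2) (pt n 3) := by
      rw [gen, if_neg (by omega)]
    have hg2 : gen n 0 * gen n 1 * (gen n 0)⁻¹ = swap (pt n 1) (pt n 2) * swap (pt n 0) (pt n 3) := by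
      have e0 : gen n 0 (pt n 0) = pt n 1 := by
        simp [gen, Perm.mul_apply, swap_apply_of_ne_of_ne, n01, n02]
      have e1 : gen n 0 (pt n 1) = pt n 2 := by
        simp [gen, Perm.mul_apply, swap_apply_of_ne_of_ne, n02.symm, n12.symm]
      have e2 : gen n 0 (pt n 2) = pt n 0 := by
        simp [gen, Perm.mul_apply]
      have e3 : gen n 0 (pt n 3) = pt n 3 := by
        simp [gen, Perm.mul_apply, swap_apply_of_ne_of_ne, n03.symm, n13.symm, n23.symm]
      rw [hg1, show gen n 0 * (swap (pt n 0) (pt n 1) * swap (pt n 2) (pt n 3)) * (gen n 0)⁻¹ =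
        (gen n 0 * swap (pt n 0) (pt n 1) * (gen n 0)⁻¹) * (gen n 0 * swap (pt n 2) (pt n 3) * (gen n 0)⁻¹) by group,
        ← swap_apply_apply, ← swap_apply_apply, e0, e1, e2, e3]
    have hc1 : f * gen n 1 * f⁻¹ = swap p q * swap u v := by
      rw [hg1, show f * (swap (pt n 0) (pt n 1) * swap (pt n 2) (pt n 3)) * f⁻¹ =
        (f * swap (pt n 0) (pt n 1) * f⁻¹) * (f * swap (pt n 2) (pt n 3) * f⁻¹) by group,
        ← swap_apply_apply, ← swap_apply_apply, f0, f1, f2, f3, swap_comm q p]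
    have hc2 : f * (gen n 0 * gen n 1 * (gen n 0)⁻¹) * f⁻¹ = swap p u * swap q v := by
      rw [hg2, show f * (swap (pt n 1) (pt n 2) * swap (pt n 0) (pt n 3)) * f⁻¹ =
        (f * swap (pt n 1) (pt n 2) * f⁻¹) * (f * swap (pt n 0) (pt n 3) * f⁻¹) by group,
        ← swap_apply_apply, ← swap_apply_apply, f0, f1, f2, f3]
    intro h
    have key : ∀ (f' : Perm (Fin n)) (A B : Γ), Perm.sign f' = 1 → π A = f' * gen n 1 * f'⁻¹ →
        π B = f' * (gen n 0 * gen n 1 * (gen n 0)⁻¹) * f'⁻¹ → ⁅A, B⁆ = 1 → False := by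
      intro f' A B hf' hA hB hAB
      obtain ⟨F, hF⟩ := hlift f' hf'
      refine standard_pair_ne hn hperf hZ e (F⁻¹ * A * F) (F⁻¹ * B * F) ?_ ?_ ?_
      · show π (F⁻¹ * A * F) = _
        rw [map_mul, map_mul, map_inv, hF, hA]; group
      · show π (F⁻¹ * B * F) = _
        rw [map_mul, map_mul, map_inv, hF, hB]; group
      · rw [show ⁅F⁻¹ * A * F, F⁻¹ * B * F⁆ = F⁻¹ * ⁅A, B⁆ * F by simp only [commutatorElement_def]; group, hAB,
          mul_one, inv_mul_cancel]
    rcases Int.units_eq_one_or (Perm.sign f) with hs | hs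
    · exact key f X Y hs (hX.trans hc1.symm) (hY.trans hc2.symm) h
    · set t := swap (pt n 0) (pt n 2) with ht
      have ht0 : t (pt n 0) = pt n 2 := swap_apply_left _ _
      have ht1 : t (pt n 1) = pt n 1 := swap_apply_of_ne_of_ne n01.symm n12
      have ht2 : t (pt n 2) = pt n 0 := swap_apply_right _ _
      have ht3 : t (pt n 3) = pt n 3 := swap_apply_of_ne_of_ne n03.symm n23.symm
      have t1 : t * gen n 1 * t⁻¹ = gen n 0 * gen n 1 * (gen n 0)⁻¹ := by
        rw [hg2, hg1, show t * (swap (pt n 0) (pt n 1) * swap (pt n 2) (pt n 3)) * t⁻¹ =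
          (t * swap (pt n 0) (pt n 1) * t⁻¹) * (t * swap (pt n 2) (pt n 3) * t⁻¹) by group,
          ← swap_apply_apply, ← swap_apply_apply, ht0, ht1, ht2, ht3, swap_comm (pt n 2) (pt n 1)]
      have t2 : t * (gen n 0 * gen n 1 * (gen n 0)⁻¹) * t⁻¹ = gen n 1 := by
        rw [← t1, ht, show swap (pt n 0) (pt n 2) * (swap (pt n 0) (pt n 2) * gen n 1 * (swap (pt n 0) (pt n 2))⁻¹) *
          (swap (pt n 0) (pt n 2))⁻¹ = (swap (pt n 0) (pt n 2) * swap (pt n 0) (pt n 2)) * gen n 1 *
            (swap (pt n 0) (pt n 2) * swap (pt n 0) (pt n 2))⁻¹ by group, swap_mul_self, one_mul, inv_one, mul_one]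
      refine key (f * t) Y X (by rw [map_mul, hs, Perm.sign_swap n02]; decide) ?_ ?_
        (commutatorElement_eq_one_iff_mul_comm.2 (commutatorElement_eq_one_iff_mul_comm.1 h).symm)
      · rw [show f * t * gen n 1 * (f * t)⁻¹ = f * (t * gen n 1 * t⁻¹) * f⁻¹ by group, t1, hc2, hY]
      · rw [show f * t * (gen n 0 * gen n 1 * (gen n 0)⁻¹) * (f * t)⁻¹ =
          f * (t * (gen n 0 * gen n 1 * (gen n 0)⁻¹) * t⁻¹) * f⁻¹ by group, t2, hc1, hX]
  by_cases hσ : π g = 1
  · rcases hz g (hker ▸ hσ) with rfl | rfl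
    · exact ⟨1, 1, by group⟩
    · have hne : ∀ i j : Fin 4, i ≠ j → pt n i.1 ≠ pt n j.1 := fun i j h =>
        CfsgLib.Char.AltPres.pt_ne (by omega) (by omega) (fun h' => h (Fin.ext h'))
      have n01 := hne 0 1 (by decide); have n02 := hne 0 2 (by decide); have n03 := hne 0 3 (by decide)
      have n12 := hne 1 2 (by decide); have n13 := hne 1 3 (by decide); have n23 := hne 2 3 (by decide)
      simp only [Fin.val_zero, Fin.val_one, Fin.val_two, show ((3 : Fin 4) : ℕ) = 3 from rfl] at n01 n02 n03 n12 n13 n23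
      obtain ⟨S, hS⟩ := hlift (swap (pt n 0) (pt n 1) * swap (pt n 2) (pt n 3))
        (by rw [map_mul, Perm.sign_swap n01, Perm.sign_swap n23]; decide)
      obtain ⟨T, hT⟩ := hlift (swap (pt n 0) (pt n 2) * swap (pt n 1) (pt n 3))
        (by rw [map_mul, Perm.sign_swap n02, Perm.sign_swap n13]; decide)
      have h1 : ⁅S, T⁆ ≠ 1 := klein (pt n 0) (pt n 1) (pt n 2) (pt n 3)
        (by simp [n01, n02, n03, n12, n13, n23]) S T hS hT
      refine ⟨S, T, (hz _ (hcomm_mem S T ?_)).resolve_left h1⟩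
      rw [hS, hT]
      have e1 := klein_product (a := pt n 0) (b := pt n 1) n01 n02 n03 n12 n13 n23
      ext w
      by_cases w0 : w = pt n 0
      · subst w0; simp [Perm.mul_apply, swap_apply_of_ne_of_ne, n01, n02, n03, n12, n13, n23, n01.symm, n02.symm, n03.symm, n12.symm, n13.symm, n23.symm]
      by_cases w1 : w = pt n 1
      · subst w1; simp [Perm.mul_apply, swap_apply_of_ne_of_ne, n01, n02, n03, n12, n13, n23, n01.symm, n02.symm, n03.symm, n12.symm, n13.symm, n23.symm]
      by_cases w2 : w = pt n 2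
      · subst w2; simp [Perm.mul_apply, swap_apply_of_ne_of_ne, n01, n02, n03, n12, n13, n23, n01.symm, n02.symm, n03.symm, n12.symm, n13.symm, n23.symm]
      by_cases w3 : w = pt n 3
      · subst w3; simp [Perm.mul_apply, swap_apply_of_ne_of_ne, n01, n02, n03, n12, n13, n23, n01.symm, n02.symm, n03.symm, n12.symm, n13.symm, n23.symm]
      simp [Perm.mul_apply, swap_apply_of_ne_of_ne, w0, w1, w2, w3]
  · have hsg : Perm.sign (π g) = 1 := Equiv.Perm.mem_alternatingGroup.1 (e (QuotientGroup.mk g)).2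
    obtain ⟨a, b, p, q, u, v, hnd, hsa, hsb, hap, haq, hau, hav, hab⟩ :=
      exists_commutator (by simpa using hn) (π g) hσ hsg
    have hnd' := hnd
    simp only [List.nodup_cons, List.mem_cons, List.not_mem_nil, or_false, not_or] at hnd'
    obtain ⟨⟨npq, npu, npv⟩, ⟨nqu, nqv⟩, nuv, -⟩ := hnd'
    obtain ⟨A, hA⟩ := hlift a hsa
    obtain ⟨B, hB⟩ := hlift b hsb
    obtain ⟨C, hC⟩ := hlift (swap p u * swap q v) (by rw [map_mul, Perm.sign_swap npu, Perm.sign_swap nqv]; decide)
    obtain ⟨K, hK⟩ := hlift (swap p q * swap u v) (by rw [map_mul, Perm.sign_swap npq, Perm.sign_swap nuv]; decide)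
    have hw : (A * B * A⁻¹ * B⁻¹)⁻¹ * g ∈ center Γ := by
      rw [← hker, MonoidHom.mem_ker, map_mul, map_inv, map_mul, map_mul, map_mul, map_inv, map_inv, hA, hB, ← hab,
        inv_mul_cancel]
    rcases hz _ hw with h | h
    · exact ⟨A, B, (inv_mul_eq_one.1 h)⟩
    -- the rest of `a`
    set Fs : Finset (Fin n) := {p, q, u, v} with hFs
    set a₂ := swap p q * swap u v * a with ha₂
    have hfix : ∀ w ∈ Fs, a₂ w = w := by
      intro w hw
      simp only [hFs, Finset.mem_insert, Finset.mem_singleton] at hw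
      rcases hw with rfl | rfl | rfl | rfl
      · rw [ha₂, Perm.mul_apply, Perm.mul_apply, hap, swap_apply_of_ne_of_ne nqu nqv, swap_apply_right]
      · rw [ha₂, Perm.mul_apply, Perm.mul_apply, haq, swap_apply_of_ne_of_ne npu npv, swap_apply_left]
      · rw [ha₂, Perm.mul_apply, Perm.mul_apply, hau, swap_apply_right, swap_apply_of_ne_of_ne (Ne.symm npu) (Ne.symm nqu)]
      · rw [ha₂, Perm.mul_apply, Perm.mul_apply, hav, swap_apply_left, swap_apply_of_ne_of_ne (Ne.symm npv) (Ne.symm nqv)]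
    have hpres : ∀ w, a₂ w ∈ (Fsᶜ : Finset (Fin n)) ↔ w ∈ (Fsᶜ : Finset (Fin n)) := by
      intro w
      simp only [Finset.mem_compl]
      refine not_congr ⟨fun h => ?_, fun h => by rwa [hfix w h]⟩
      rwa [a₂.injective (hfix _ h)] at h
    have hcomp : ∀ w : alternatingGroup {x // x ∈ (Fsᶜ : Finset (Fin n))}, ∀ X : Γ,
        π X = Perm.ofSubtype (w : Perm {x // x ∈ (Fsᶜ : Finset (Fin n))}) → X * C = C * X := by
      have hdis : ∀ w : Perm {x // x ∈ (Fsᶜ : Finset (Fin n))},
          Perm.ofSubtype w * (swap p u * swap q v) = swap p u * swap q v * Perm.ofSubtype w := by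
        intro w
        refine (Perm.Disjoint.commute fun y => ?_).eq
        by_cases hy : y ∈ (Fsᶜ : Finset (Fin n))
        · simp only [hFs, Finset.mem_compl, Finset.mem_insert, Finset.mem_singleton, not_or] at hy
          exact Or.inr (by rw [Perm.mul_apply, swap_apply_of_ne_of_ne hy.2.1 hy.2.2.2, swap_apply_of_ne_of_ne hy.1 hy.2.2.1])
        · exact Or.inl (Perm.ofSubtype_apply_of_not_mem _ hy)
      intro w0
      suffices H : ∀ w ∈ Subgroup.closure {σ : Perm {x // x ∈ (Fsᶜ : Finset (Fin n))} | σ.IsThreeCycle},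
          ∀ X : Γ, π X = Perm.ofSubtype w → X * C = C * X from
        H w0.1 (by rw [Equiv.Perm.closure_three_cycles_eq_alternating]; exact w0.2)
      intro w hw
      induction hw using Subgroup.closure_induction with
      | mem x hx =>
        intro X hX
        have hcent := hcomm_mem X C (by rw [hX, hC]; exact hdis x)
        have h3 : X ^ 3 ∈ center Γ := by
          rw [← hker, MonoidHom.mem_ker, map_pow, hX, ← map_pow,
            show x ^ 3 = 1 by rw [← hx.orderOf, pow_orderOf_eq_one], map_one]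
        rcases hz _ hcent with hk | hk
        · exact commutatorElement_eq_one_iff_mul_comm.1 hk
        · exfalso
          have e1 : C * X * C⁻¹ = X * z := by
            have hzX := Subgroup.mem_center_iff.1 hzc
            have : X * C * X⁻¹ * C⁻¹ = z := hk
            calc C * X * C⁻¹ = (X * C * X⁻¹ * C⁻¹)⁻¹ * X := by group
              _ = X * z := by rw [this, inv_eq_of_mul_eq_one_right hzz, ← hzX X]
          have e2 : C * X ^ 3 * C⁻¹ = X ^ 3 := by
            rw [Subgroup.mem_center_iff.1 h3 C, mul_inv_cancel_right]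
          rw [← conj_pow, e1, Commute.mul_pow (Subgroup.mem_center_iff.1 hzc X), pow_succ z, pow_two, hzz,
            one_mul, mul_eq_left] at e2
          exact hz1 e2
      | one =>
        intro X hX
        exact (Subgroup.mem_center_iff.1 (hker ▸ (by rw [MonoidHom.mem_ker, hX]; simp) : X ∈ center Γ) C).symm
      | mul x y hx hy ihx ihy =>
        intro X hX
        rw [Equiv.Perm.closure_three_cycles_eq_alternating] at hx
        obtain ⟨X₁, hX₁⟩ := hlift (Perm.ofSubtype x)
          ((Perm.sign_ofSubtype x).trans (Equiv.Perm.mem_alternatingGroup.1 hx))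
        have h1 : X₁ * C = C * X₁ := ihx X₁ hX₁
        have h2 : X₁⁻¹ * X * C = C * (X₁⁻¹ * X) := ihy (X₁⁻¹ * X) (by
          rw [map_mul, map_inv, hX, hX₁]; simp)
        calc X * C = X₁ * (X₁⁻¹ * X * C) := by group
          _ = (X₁ * C) * (X₁⁻¹ * X) := by rw [h2]; group
          _ = C * X := by rw [h1]; group
      | inv x hx ih =>
        intro X hX
        have h1 : X⁻¹ * C = C * X⁻¹ := ih X⁻¹ (by rw [map_inv, hX]; simp)
        calc X * C = X * (C * X⁻¹) * X := by group
          _ = X * (X⁻¹ * C) * X := by rw [h1]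
          _ = C * X := by group
    have hKA : Perm.sign a₂ = 1 := by
      rw [ha₂, map_mul, map_mul, Perm.sign_swap npq, Perm.sign_swap nuv, hsa]; decide
    have hsub : Perm.ofSubtype (a₂.subtypePerm hpres) = a₂ :=
      Perm.ofSubtype_subtypePerm _ fun w hw => Finset.mem_compl.2 fun h => hw (hfix w h)
    have hrest : (K⁻¹ * A) * C = C * (K⁻¹ * A) := by
      refine hcomp ⟨a₂.subtypePerm hpres, Equiv.Perm.mem_alternatingGroup.2 ?_⟩ (K⁻¹ * A) ?_
      · rw [← Perm.sign_ofSubtype, hsub]; exact hKA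
      · rw [hsub, map_mul, map_inv, hK, hA, ha₂, mul_inv_rev, swap_inv, swap_inv]
        have hd := disjoint_swaps (a := p) (b := q) npu npv nqu nqv
        rw [hd.commute.eq]
    have hAC : ⁅A, C⁆ = z := by
      have h1 : ⁅A, C⁆ = ⁅K, C⁆ := by
        calc ⁅A, C⁆ = ⁅K * (K⁻¹ * A), C⁆ := by rw [mul_inv_cancel_left]
          _ = K * ((K⁻¹ * A) * C * (K⁻¹ * A)⁻¹) * K⁻¹ * C⁻¹ := by simp only [commutatorElement_def]; group
          _ = ⁅K, C⁆ := by rw [hrest, commutatorElement_def]; group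
      have h2 : ⁅K, C⁆ ≠ 1 := klein p q u v hnd K C hK hC
      rw [h1]
      refine (hz _ (hcomm_mem K C ?_)).resolve_left h2
      rw [hK, hC]
      ext w
      by_cases w0 : w = p
      · subst w0; simp [Perm.mul_apply, swap_apply_of_ne_of_ne, npq, npu, npv, nqu, nqv, nuv, Ne.symm npq, Ne.symm npu, Ne.symm npv, Ne.symm nqu, Ne.symm nqv, Ne.symm nuv]
      by_cases w1 : w = q
      · subst w1; simp [Perm.mul_apply, swap_apply_of_ne_of_ne, npq, npu, npv, nqu, nqv, nuv, Ne.symm npq, Ne.symm npu, Ne.symm npv, Ne.symm nqu, Ne.symm nqv, Ne.symm nuv]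
      by_cases w2 : w = u
      · subst w2; simp [Perm.mul_apply, swap_apply_of_ne_of_ne, npq, npu, npv, nqu, nqv, nuv, Ne.symm npq, Ne.symm npu, Ne.symm npv, Ne.symm nqu, Ne.symm nqv, Ne.symm nuv]
      by_cases w3 : w = v
      · subst w3; simp [Perm.mul_apply, swap_apply_of_ne_of_ne, npq, npu, npv, nqu, nqv, nuv, Ne.symm npq, Ne.symm npu, Ne.symm npv, Ne.symm nqu, Ne.symm nqv, Ne.symm nuv]
      simp [Perm.mul_apply, swap_apply_of_ne_of_ne, w0, w1, w2, w3]
    refine ⟨A, B * C, ?_⟩
    calc A * (B * C) * A⁻¹ * (B * C)⁻¹ = (A * B * A⁻¹ * B⁻¹) * (B * ⁅A, C⁆ * B⁻¹) := by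
          simp only [commutatorElement_def]; group
      _ = (A * B * A⁻¹ * B⁻¹) * z := by rw [hAC, Subgroup.mem_center_iff.1 hzc B, mul_inv_cancel_right]
      _ = g := by rw [← h, mul_inv_cancel_left]

end CfsgLib.Invol.AltCover
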